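import Groth.Prelude.Def_Exal2
import Groth.Prelude.Def_FSRel
import Mathlib

/-!
Extensions of algebras by modules: morphisms, derivations, inverse images, conormal maps.
-/

set_option autoImplicit false

universe u v w

namespace Groth.Agent.ExalLib

attribute [local instance] Exal.opModule Exal.isCentralScalar_opModule

open Exal

variable {A : Type u} {B L : Type v} [CommRing A] [CommRing B] [Algebra A B] [AddCommGroup L] [Module B L]

theorem proj_incl (X : Ext A B L) (z : L) : X.proj (X.incl z) = 0 := (X.isExtension.exact _).2 ⟨z, rfl⟩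

theorem incl_mul_incl (X : Ext A B L) (z z' : L) : X.incl z * X.incl z' = 0 := by
  rw [X.isExtension.mul_incl, proj_incl, zero_smul, map_zero]

/-- A map of extensions is an equivalence. -/
theorem nonempty_equiv (X Y : Ext A B L) (f : X.E →ₐ[A] Y.E) (hp : ∀ x, Y.proj (f x) = X.proj x)
    (hi : ∀ z, f (X.incl z) = Y.incl z) : Nonempty (X.Equiv Y) := by
  have hinj : Function.Injective f := by
    rw [injective_iff_map_eq_zero]
    intro x hx
    obtain ⟨z, rfl⟩ := (X.isExtension.exact x).1 (by rw [← hp, hx, map_zero])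
    rw [hi, ← Y.incl.map_zero] at hx
    rw [Y.isExtension.incl_injective hx, map_zero]
  have hsurj : Function.Surjective f := fun y => by
    obtain ⟨x, hx⟩ := X.isExtension.proj_surjective (Y.proj y)
    obtain ⟨z, hz⟩ := (Y.isExtension.exact (y - f x)).1 (by rw [map_sub, hp, hx, sub_self])
    exact ⟨x + X.incl z, by rw [map_add, hi, hz, add_sub_cancel]⟩
  exact ⟨⟨AlgEquiv.ofBijective f ⟨hinj, hsurj⟩, hp, hi⟩⟩

section Derivation

variable {C : Type v} [CommRing C] [Algebra A C] [Algebra B C] [IsScalarTower A B C]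
  [Module C L] [IsScalarTower B C L] [Module A L] [IsScalarTower A B L]

theorem ofDerivation_isTrivial_iff [IsScalarTower A C L] (D : Derivation A B L) :
    (Ext.ofDerivation (C := C) D).IsTrivial ↔ ∃ D' : Derivation A C L, D'.compAlgebraMap B = D := by
  constructor
  · rintro ⟨s, hs⟩
    let σ : C → L := fun c => TrivSqZeroExt.snd (R := C) (M := L) (s c)
    have hfst : ∀ c, TrivSqZeroExt.fst (R := C) (M := L) (s c) = c := hs
    have hadd : ∀ c c', σ (c + c') = σ c + σ c' := fun c c' =>
      (congrArg (TrivSqZeroExt.snd (R := C) (M := L)) (map_add s c c')).trans (TrivSqZeroExt.snd_add _ _)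
    have hmul : ∀ c c', σ (c * c') = c • σ c' + c' • σ c := fun c c' => by
      show TrivSqZeroExt.snd (R := C) (M := L) (s (c * c')) = _
      rw [map_mul]
      refine (TrivSqZeroExt.snd_mul (R := C) (M := L) _ _).trans ?_
      rw [op_smul_eq_smul, hfst, hfst]
    have hmap : ∀ b, σ (algebraMap B C b) = D b := fun b => by
      show TrivSqZeroExt.snd (R := C) (M := L) (s (algebraMap B C b)) = _
      rw [s.commutes]
      exact (TrivSqZeroExt.snd_add _ _).trans (by rw [TrivSqZeroExt.snd_inl, TrivSqZeroExt.snd_inr, zero_add])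
    have hone : σ 1 = 0 := by rw [← map_one (algebraMap B C), hmap, D.map_one_eq_zero]
    refine ⟨Derivation.mk' { toFun := σ, map_add' := hadd, map_smul' := fun a c => ?_ } hmul, ?_⟩
    · rw [Algebra.smul_def, hmul, RingHom.id_apply, IsScalarTower.algebraMap_apply A B C, hmap,
        D.map_algebraMap, smul_zero, add_zero, IsScalarTower.algebraMap_smul, IsScalarTower.algebraMap_smul]
    · ext b
      exact hmap b
  · rintro ⟨D', hD'⟩
    let g : C →+* Ext.DerCarrier (C := C) D := Ext.derivationHom (B := C) (C := C) D'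
    refine ⟨{ g with commutes' := fun b => ?_ }, fun c => ?_⟩
    · show TrivSqZeroExt.inl (algebraMap C C (algebraMap B C b)) + TrivSqZeroExt.inr (D' (algebraMap B C b)) =
        TrivSqZeroExt.inl (algebraMap B C b) + TrivSqZeroExt.inr (D b)
      rw [← hD']
      rfl
    · show TrivSqZeroExt.fst (TrivSqZeroExt.inl (algebraMap C C c) + TrivSqZeroExt.inr (D' c)) = c
      rw [TrivSqZeroExt.fst_add, TrivSqZeroExt.fst_inl, TrivSqZeroExt.fst_inr, add_zero]
      rfl

theorem isTrivialOver_iff (X : Ext B C L) :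
    X.IsTrivialOver A ↔ ∃ D : Derivation A B L, Nonempty (X.Equiv (Ext.ofDerivation (C := C) D)) := by
  constructor
  · rintro ⟨s, hs⟩
    let s' : C →+* X.E := s.toRingHom
    have hs' : ∀ c, X.proj (s' c) = c := hs
    have hsA : ∀ a : A, s' (algebraMap A C a) = algebraMap B X.E (algebraMap A B a) := fun a => s.commutes a
    have hk : ∀ b : B, X.proj (algebraMap B X.E b - s' (algebraMap B C b)) = 0 := fun b => by
      rw [map_sub, AlgHom.commutes, hs', sub_self]
    let δ : B → L := fun b => X.kerLift _ (hk b)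
    have hδ : ∀ b, X.incl (δ b) = algebraMap B X.E b - s' (algebraMap B C b) := fun b => Ext.incl_kerLift _ _ _
    have hadd : ∀ b b', δ (b + b') = δ b + δ b' := fun b b' => X.isExtension.incl_injective (by
      rw [map_add, hδ, hδ, hδ, map_add, map_add, map_add]; abel)
    have hmul : ∀ b b', δ (b * b') = b • δ b' + b' • δ b := fun b b' => X.isExtension.incl_injective (by
      rw [map_add, ← IsScalarTower.algebraMap_smul C b, ← IsScalarTower.algebraMap_smul C b' (δ b)]
      conv_rhs => rw [← X.proj.commutes b]; arg 2; rw [← hs' (algebraMap B C b')]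
      rw [← X.isExtension.mul_incl, ← X.isExtension.mul_incl, hδ, hδ, hδ, map_mul, map_mul, map_mul]
      ring)
    have hA : ∀ a : A, δ (algebraMap A B a) = 0 := fun a => X.isExtension.incl_injective (by
      rw [hδ, map_zero, ← IsScalarTower.algebraMap_apply A B C, hsA, sub_self])
    let D : Derivation A B L := Derivation.mk'
      { toFun := δ, map_add' := hadd, map_smul' := fun a b => by
          rw [Algebra.smul_def, hmul, hA, smul_zero, add_zero, IsScalarTower.algebraMap_smul, RingHom.id_apply] }
      hmul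
    let Φ : TrivSqZeroExt C L →+* X.E :=
      { toFun := fun x => s' x.fst + X.incl x.snd
        map_one' := by rw [TrivSqZeroExt.fst_one, TrivSqZeroExt.snd_one, map_one, map_zero, add_zero]
        map_mul' := fun x y => by
          rw [TrivSqZeroExt.fst_mul, TrivSqZeroExt.snd_mul, op_smul_eq_smul, map_mul, map_add, add_mul, mul_add,
            mul_add, incl_mul_incl, add_zero, mul_comm (X.incl _) (s' _), X.isExtension.mul_incl,
            X.isExtension.mul_incl, hs', hs', add_assoc]
        map_zero' := by rw [TrivSqZeroExt.fst_zero, TrivSqZeroExt.snd_zero, map_zero, map_zero, add_zero]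
        map_add' := fun x y => by
          rw [TrivSqZeroExt.fst_add, TrivSqZeroExt.snd_add, map_add, map_add]
          abel }
    refine ⟨D, ?_⟩
    obtain ⟨e⟩ := nonempty_equiv (Ext.ofDerivation (C := C) D) X
      { (Φ : Ext.DerCarrier (C := C) D →+* X.E) with
        commutes' := fun b => by
          show s' (TrivSqZeroExt.fst (TrivSqZeroExt.inl (algebraMap B C b) + TrivSqZeroExt.inr (δ b))) +
            X.incl (TrivSqZeroExt.snd (TrivSqZeroExt.inl (algebraMap B C b) + TrivSqZeroExt.inr (δ b))) = _
          rw [TrivSqZeroExt.fst_add, TrivSqZeroExt.fst_inl, TrivSqZeroExt.fst_inr, add_zero,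
            TrivSqZeroExt.snd_add, TrivSqZeroExt.snd_inl, TrivSqZeroExt.snd_inr, zero_add, hδ, add_sub_cancel] }
      (fun x => by
        show X.proj (s' (TrivSqZeroExt.fst x) + X.incl (TrivSqZeroExt.snd x)) = TrivSqZeroExt.fst x
        rw [map_add, hs', proj_incl, add_zero])
      (fun z => by
        show s' (TrivSqZeroExt.fst (TrivSqZeroExt.inr z : TrivSqZeroExt C L)) +
          X.incl (TrivSqZeroExt.snd (TrivSqZeroExt.inr z : TrivSqZeroExt C L)) = X.incl z
        rw [TrivSqZeroExt.fst_inr, TrivSqZeroExt.snd_inr, map_zero, zero_add])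
    exact ⟨e.symm⟩
  · rintro ⟨D, ⟨e⟩⟩
    let j : C →+* Ext.DerCarrier (C := C) D := TrivSqZeroExt.inlHom C L
    refine ⟨{ (e.toAlgEquiv.symm.toRingHom.comp j : C →+* X.RestrictCarrier A) with
              commutes' := fun a => ?_ }, fun c => ?_⟩
    · show e.toAlgEquiv.symm (j (algebraMap A C a)) = algebraMap B X.E (algebraMap A B a)
      rw [← e.toAlgEquiv.symm.commutes]
      congr 1
      show TrivSqZeroExt.inl (algebraMap A C a) = TrivSqZeroExt.inl (algebraMap B C (algebraMap A B a)) +
        TrivSqZeroExt.inr (D (algebraMap A B a))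
      rw [D.map_algebraMap, TrivSqZeroExt.inr_zero, add_zero, ← IsScalarTower.algebraMap_apply A B C]
    · show X.proj (e.toAlgEquiv.symm (j c)) = c
      exact (e.proj_apply _).symm.trans (congrArg _ (e.toAlgEquiv.apply_symm_apply _))

end Derivation

section Pullback

variable {C : Type v} [CommRing C] [Algebra A C] [Algebra B C] [IsScalarTower A B C]
  [Module C L] [IsScalarTower B C L]

theorem pullback_isTrivial_iff_lift (Y : Ext A C L) :
    (Y.pullback B).IsTrivial ↔ ∃ σ : B →ₐ[A] Y.E, ∀ b, Y.proj (σ b) = algebraMap B C b := by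
  constructor
  · rintro ⟨s, hs⟩
    refine ⟨((AlgHom.fst A Y.E B).comp (Y.fiberProd B).val).comp s, fun b => ?_⟩
    exact (s b).2.trans (congrArg (algebraMap B C) (hs b))
  · rintro ⟨σ, hσ⟩
    exact ⟨(σ.prod (AlgHom.id A B)).codRestrict (Y.fiberProd B) fun b => hσ b, fun b => rfl⟩

theorem pullback_isTrivial_iff (Y : Ext A C L) :
    (Y.pullback B).IsTrivial ↔ ∃ X : Ext B C L, Nonempty ((X.restrictBase A).Equiv Y) := by
  rw [pullback_isTrivial_iff_lift]
  constructor
  · rintro ⟨σ, hσ⟩
    letI : Algebra B Y.E := σ.toRingHom.toAlgebra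
    let X : Ext B C L :=
      { E := Y.E
        proj := { Y.proj.toRingHom with commutes' := hσ }
        incl := Y.incl
        isExtension := ⟨Y.isExtension.proj_surjective, Y.isExtension.incl_injective, Y.isExtension.exact,
          Y.isExtension.mul_incl⟩ }
    exact ⟨X, nonempty_equiv (X.restrictBase A) Y
      { (RingHom.id Y.E) with commutes' := fun a => σ.commutes a } (fun x => rfl) (fun z => rfl)⟩
  · rintro ⟨X, ⟨e⟩⟩
    let φ : B →ₐ[A] X.RestrictCarrier A := { (algebraMap B X.E : B →+* X.RestrictCarrier A) with commutes' := fun a => rfl }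
    refine ⟨e.toAlgEquiv.toAlgHom.comp φ, fun b => ?_⟩
    show Y.proj (e.toAlgEquiv (φ b)) = _
    exact (e.proj_apply (φ b)).trans (X.proj.commutes b)

end Pullback

section Conormal

variable {B : Type v} [CommRing B] (J : Ideal B) {M : Type v} [AddCommGroup M] [Module (B ⧸ J) M] [Module B M]
  [IsScalarTower B (B ⧸ J) M]

theorem exists_decomp (X : Ext B (B ⧸ J) M) (x : X.E) : ∃ b m, x = algebraMap B X.E b + X.incl m := by
  obtain ⟨b, hb⟩ := Ideal.Quotient.mk_surjective (X.proj x)
  obtain ⟨m, hm⟩ := (X.isExtension.exact (x - algebraMap B X.E b)).1 (by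
    rw [map_sub, AlgHom.commutes, Ideal.Quotient.algebraMap_eq, hb, sub_self])
  exact ⟨b, m, by rw [hm, add_sub_cancel]⟩

theorem algebraMap_add_incl_eq_zero_iff (X : Ext B (B ⧸ J) M) (b : B) (m : M) :
    algebraMap B X.E b + X.incl m = 0 ↔ ∃ h : b ∈ J, m = - X.idealToKer J ⟨b, h⟩ := by
  constructor
  · intro h
    have hb : b ∈ J := by
      have := congrArg X.proj h
      rwa [map_add, proj_incl, add_zero, AlgHom.commutes, map_zero, Ideal.Quotient.algebraMap_eq,
        Ideal.Quotient.eq_zero_iff_mem] at this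
    refine ⟨hb, X.isExtension.incl_injective ?_⟩
    rw [map_neg, eq_neg_iff_add_eq_zero]
    show X.incl m + X.incl (X.kerLift _ (X.proj_algebraMap_eq_zero J ⟨b, hb⟩)) = 0
    rw [Ext.incl_kerLift, add_comm]
    exact h
  · rintro ⟨hb, rfl⟩
    rw [map_neg]
    show _ + -X.incl (X.kerLift _ (X.proj_algebraMap_eq_zero J ⟨b, hb⟩)) = 0
    rw [Ext.incl_kerLift]
    exact add_neg_cancel _

theorem nonempty_equiv_of_conormalMap_eq (X Y : Ext B (B ⧸ J) M) (h : X.conormalMap J = Y.conormalMap J) :
    Nonempty (X.Equiv Y) := by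
  have hker : ∀ z : J, X.idealToKer J z = Y.idealToKer J z := fun z => LinearMap.congr_fun h (J.toCotangent z)
  choose b m hbm using exists_decomp J X
  let f : X.E → Y.E := fun x => algebraMap B Y.E (b x) + Y.incl (m x)
  have hf : ∀ b' m', f (algebraMap B X.E b' + X.incl m') = algebraMap B Y.E b' + Y.incl m' := by
    intro b' m'
    let x := algebraMap B X.E b' + X.incl m'
    have h0 : algebraMap B X.E (b x - b') + X.incl (m x - m') = 0 := by
      rw [map_sub, map_sub]
      linear_combination -(hbm x)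
    obtain ⟨hb, hm⟩ := (algebraMap_add_incl_eq_zero_iff J X _ _).1 h0
    have h1 : algebraMap B Y.E (b x - b') + Y.incl (m x - m') = 0 :=
      (algebraMap_add_incl_eq_zero_iff J Y _ _).2 ⟨hb, hm.trans (by rw [hker])⟩
    rw [map_sub, map_sub] at h1
    show algebraMap B Y.E (b x) + Y.incl (m x) = _
    linear_combination h1
  have hmul : ∀ x y, f (x * y) = f x * f y := fun x y => by
    rw [hbm x, hbm y, hf, hf]
    have e : ∀ Z : Ext B (B ⧸ J) M, ∀ b₁ m₁ b₂ m₂, (algebraMap B Z.E b₁ + Z.incl m₁) * (algebraMap B Z.E b₂ + Z.incl m₂) =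
        algebraMap B Z.E (b₁ * b₂) + Z.incl (b₁ • m₂ + b₂ • m₁) := fun Z b₁ m₁ b₂ m₂ => by
      rw [add_mul, mul_add, mul_add, incl_mul_incl, add_zero, map_mul, map_add, mul_comm (Z.incl m₁),
        Z.isExtension.mul_incl, Z.isExtension.mul_incl, AlgHom.commutes, AlgHom.commutes,
        IsScalarTower.algebraMap_smul, IsScalarTower.algebraMap_smul, add_assoc]
    rw [e X, hf, e Y]
  have hadd : ∀ x y, f (x + y) = f x + f y := fun x y => by
    rw [hbm x, hbm y, hf, hf, add_add_add_comm, ← map_add, ← map_add, hf, map_add, map_add, add_add_add_comm]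
  have halg : ∀ c, f (algebraMap B X.E c) = algebraMap B Y.E c := fun c => by
    simpa using hf c 0
  have hincl : ∀ z, f (X.incl z) = Y.incl z := fun z => by simpa using hf 0 z
  refine nonempty_equiv X Y
    { toFun := f, map_one' := by simpa using halg 1, map_mul' := hmul, map_zero' := by simpa using halg 0,
      map_add' := hadd, commutes' := halg } (fun x => ?_) hincl
  show Y.proj (algebraMap B Y.E (b x) + Y.incl (m x)) = _
  rw [map_add, proj_incl, AlgHom.commutes]
  conv_rhs => rw [hbm x, map_add, proj_incl, AlgHom.commutes]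

theorem exists_conormalMap_eq (w : J.Cotangent →ₗ[B] M) : ∃ X : Ext B (B ⧸ J) M, X.conormalMap J = w := by
  have hJM : ∀ j ∈ J, ∀ m : M, j • m = 0 := fun j hj m => by
    rw [← IsScalarTower.algebraMap_smul (B ⧸ J) j, Ideal.Quotient.algebraMap_eq,
      Ideal.Quotient.eq_zero_iff_mem.2 hj, zero_smul]
  let I : Ideal (TrivSqZeroExt B M) :=
    { carrier := {x | ∃ h : x.fst ∈ J, x.snd = -(w (J.toCotangent ⟨x.fst, h⟩))}
      add_mem' := by
        rintro x y ⟨hx, ex⟩ ⟨hy, ey⟩
        refine ⟨by rw [TrivSqZeroExt.fst_add]; exact add_mem hx hy, ?_⟩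
        rw [TrivSqZeroExt.snd_add, ex, ey, ← neg_add, ← map_add, ← map_add]
        rfl
      zero_mem' := ⟨by simp, by
        have : (⟨TrivSqZeroExt.fst (0 : TrivSqZeroExt B M), by simp⟩ : J) = 0 := Subtype.ext (by simp)
        rw [this, map_zero, map_zero, neg_zero, TrivSqZeroExt.snd_zero]⟩
      smul_mem' := by
        rintro c x ⟨hx, ex⟩
        refine ⟨by rw [smul_eq_mul, TrivSqZeroExt.fst_mul]; exact J.mul_mem_left _ hx, ?_⟩
        have h1 : (⟨(c • x).fst, by rw [smul_eq_mul, TrivSqZeroExt.fst_mul]; exact J.mul_mem_left _ hx⟩ : J) =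
            c.fst • ⟨x.fst, hx⟩ := Subtype.ext (by simp)
        rw [h1, map_smul, map_smul, smul_eq_mul, TrivSqZeroExt.snd_mul, op_smul_eq_smul, hJM _ hx, add_zero,
          ex, smul_neg] }
  let Q := TrivSqZeroExt B M ⧸ I
  let p : TrivSqZeroExt B M →ₐ[B] B ⧸ J := (Ideal.Quotient.mkₐ B J).comp (TrivSqZeroExt.fstHom B B M)
  have hp : ∀ x ∈ I, p x = 0 := by
    rintro x ⟨hx, -⟩
    exact Ideal.Quotient.eq_zero_iff_mem.2 hx
  let pr : Q →ₐ[B] B ⧸ J := Ideal.Quotient.liftₐ I p hp
  let incl : M →+ Q := (Ideal.Quotient.mk I).toAddMonoidHom.comp (TrivSqZeroExt.inrHom B M).toAddMonoidHom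
  let X : Ext B (B ⧸ J) M :=
    { E := Q
      proj := pr
      incl := incl
      isExtension :=
        { proj_surjective := fun c => by
            obtain ⟨b, rfl⟩ := Ideal.Quotient.mk_surjective c
            exact ⟨Ideal.Quotient.mk I (TrivSqZeroExt.inl b), rfl⟩
          incl_injective := by
            rw [injective_iff_map_eq_zero]
            intro m hm
            obtain ⟨h, e⟩ := Ideal.Quotient.eq_zero_iff_mem.1 hm
            have : (⟨TrivSqZeroExt.fst (TrivSqZeroExt.inr m : TrivSqZeroExt B M), h⟩ : J) = 0 := Subtype.ext rfl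
            erw [this] at e
            rw [map_zero, map_zero, neg_zero] at e
            exact e
          exact := fun x => by
            obtain ⟨x, rfl⟩ := Ideal.Quotient.mk_surjective x
            constructor
            · intro hx
              have hxJ : x.fst ∈ J := Ideal.Quotient.eq_zero_iff_mem.1 hx
              refine ⟨x.snd + w (J.toCotangent ⟨x.fst, hxJ⟩), (Ideal.Quotient.eq.2 ?_).symm⟩
              refine ⟨by simpa using hxJ, ?_⟩
              simp
            · rintro ⟨m, hm⟩
              rw [← hm]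
              exact map_zero (Ideal.Quotient.mk J)
          mul_incl := fun x m => by
            obtain ⟨x, rfl⟩ := Ideal.Quotient.mk_surjective x
            show Ideal.Quotient.mk I x * Ideal.Quotient.mk I (TrivSqZeroExt.inr m) = Ideal.Quotient.mk I (TrivSqZeroExt.inr _)
            rw [← map_mul]
            congr 1
            refine TrivSqZeroExt.ext ?_ ?_
            · simp
            · rw [TrivSqZeroExt.snd_mul, TrivSqZeroExt.snd_inr, TrivSqZeroExt.fst_inr, MulOpposite.op_zero,
                zero_smul, add_zero]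
              show _ = pr (Ideal.Quotient.mk I x) • m
              exact (IsScalarTower.algebraMap_smul (B ⧸ J) x.fst m).symm } }
  refine ⟨X, LinearMap.ext fun c => ?_⟩
  obtain ⟨z, rfl⟩ := J.toCotangent_surjective c
  refine X.isExtension.incl_injective ((Ext.incl_kerLift X _ (X.proj_algebraMap_eq_zero J z)).trans ?_)
  show Ideal.Quotient.mk I (algebraMap B (TrivSqZeroExt B M) z) = Ideal.Quotient.mk I (TrivSqZeroExt.inr (w (J.toCotangent z)))
  refine Ideal.Quotient.eq.2 ⟨by simp [TrivSqZeroExt.algebraMap_eq_inl], ?_⟩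
  simp [TrivSqZeroExt.algebraMap_eq_inl]

end Conormal

end Groth.Agent.ExalLib
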