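import Groth.Prelude.Def_Exal3
import Groth.Agent.ExalLib.Basic

/-! The characteristic homomorphism of an extension trivial over the base. -/

set_option autoImplicit false

universe u v

open TensorProduct KaehlerDifferential

namespace Groth.Agent.ExalLib

attribute [local instance] Exal.opModule Exal.isCentralScalar_opModule

open Exal

variable {A : Type u} {B C L : Type v} [CommRing A] [CommRing B] [CommRing C]
  [Algebra A B] [Algebra B C] [Algebra A C] [IsScalarTower A B C]
  [AddCommGroup L] [Module C L] [Module B L] [IsScalarTower B C L] [Module A L] [IsScalarTower A B L]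

/-- The linear map `C ⊗ Ω → L` of a derivation. -/
noncomputable def liftD (D : Derivation A B L) : C ⊗[B] Ω[B⁄A] →ₗ[C] L :=
  D.liftKaehlerDifferential.liftBaseChange C

theorem liftD_tmul (D : Derivation A B L) (c : C) (b : B) :
    liftD (C := C) D (c ⊗ₜ[B] KaehlerDifferential.D A B b) = c • D b := by
  rw [liftD, LinearMap.liftBaseChange_tmul, Derivation.liftKaehlerDifferential_comp_D]

theorem ext_tmul_D {P : Type*} [AddCommGroup P] [Module C P] {f g : C ⊗[B] Ω[B⁄A] →ₗ[C] P}
    (h : ∀ b, f (1 ⊗ₜ KaehlerDifferential.D A B b) = g (1 ⊗ₜ KaehlerDifferential.D A B b)) : f = g := by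
  ext z
  induction z with
  | zero => rw [map_zero, map_zero]
  | add x y hx hy => rw [map_add, map_add, hx, hy]
  | tmul c ω =>
    have hω : ω ∈ Submodule.span B (Set.range (KaehlerDifferential.D A B)) := by
      rw [KaehlerDifferential.span_range_derivation]; trivial
    induction hω using Submodule.span_induction generalizing c with
    | mem y hy =>
      obtain ⟨b, rfl⟩ := hy
      rw [← mul_one c, ← smul_eq_mul, ← TensorProduct.smul_tmul', map_smul, map_smul, h]
    | zero => rw [TensorProduct.tmul_zero, map_zero, map_zero]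
    | add y z _ _ hy hz => rw [TensorProduct.tmul_add, map_add, map_add, hy, hz]
    | smul b y _ hy => rw [← TensorProduct.smul_tmul, hy]

theorem baseChangeToMiddle_tmul (X : Ext B C L) (c : C) (ω : Ω[B⁄A]) :
    X.baseChangeToMiddle A (c ⊗ₜ ω) =
      c ⊗ₜ[X.CharCarrier A] KaehlerDifferential.map A A B (X.CharCarrier A) ω := rfl

theorem deltaL_spec (X : Ext B C L) (D : Derivation A B L) (e : X.Equiv (Ext.ofDerivation (C := C) D)) :
    Function.Injective (X.deltaL A) ∧
      ∀ z : EGA41.imperfection A B C,
        X.deltaL A (liftD (C := C) D (z : C ⊗[B] Ω[B⁄A])) = X.baseChangeToMiddle A (z : C ⊗[B] Ω[B⁄A]) := by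
  let E := X.CharCarrier A
  let ε : E →+* TrivSqZeroExt C L := (e.toAlgEquiv.toRingEquiv.toRingHom : X.E →+* Ext.DerCarrier (C := C) D)
  have hfst : ∀ y : E, (ε y).fst = algebraMap E C y := fun y => e.proj_apply y
  letI : Module E L := Module.compHom L (algebraMap E C)
  haveI : IsScalarTower E C L := IsScalarTower.of_algebraMap_smul fun _ _ => rfl
  haveI : IsScalarTower A C L := ⟨fun a c x => by
    rw [Algebra.smul_def, mul_smul, IsScalarTower.algebraMap_apply A B C, algebraMap_smul, algebraMap_smul]⟩
  haveI : IsScalarTower A E L := IsScalarTower.of_algebraMap_smul fun a x => by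
    show algebraMap E C (algebraMap A E a) • x = a • x
    rw [← IsScalarTower.algebraMap_apply, algebraMap_smul]
  have hbase : ∀ b : B, ε (algebraMap B E b) = TrivSqZeroExt.inl (algebraMap B C b) + TrivSqZeroExt.inr (D b) :=
    fun b => e.toAlgEquiv.commutes b
  have hA : ∀ a : A, (ε (algebraMap A E a)).snd = 0 := fun a => by
    show (ε (algebraMap B E (algebraMap A B a))).snd = 0
    rw [hbase, TrivSqZeroExt.snd_add, TrivSqZeroExt.snd_inl, TrivSqZeroExt.snd_inr, zero_add, D.map_algebraMap]
  have hmul : ∀ x y : E, (ε (x * y)).snd = x • (ε y).snd + y • (ε x).snd := fun x y => by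
    rw [map_mul, TrivSqZeroExt.snd_mul, op_smul_eq_smul, hfst, hfst]
    rfl
  let δ : Derivation A E L := Derivation.mk'
    { toFun := fun y => (ε y).snd
      map_add' := fun x y => by rw [map_add, TrivSqZeroExt.snd_add]
      map_smul' := fun a y => by
        rw [Algebra.smul_def, hmul, hA, smul_zero, add_zero, algebraMap_smul, RingHom.id_apply] }
    hmul
  let R : C ⊗[E] Ω[E⁄A] →ₗ[C] L := δ.liftKaehlerDifferential.liftBaseChange C
  have hR : ∀ (c : C) (y : E), R (c ⊗ₜ KaehlerDifferential.D A E y) = c • (ε y).snd := fun c y => by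
    show (δ.liftKaehlerDifferential.liftBaseChange C) _ = _
    rw [LinearMap.liftBaseChange_tmul, Derivation.liftKaehlerDifferential_comp_D]
    rfl
  let j : C →+* E := (e.toAlgEquiv.symm.toRingEquiv.toRingHom : Ext.DerCarrier (C := C) D →+* X.E).comp (TrivSqZeroExt.inlHom C L)
  have hεj : ∀ c, ε (j c) = TrivSqZeroExt.inl c := fun c => e.toAlgEquiv.apply_symm_apply _
  have hεi : ∀ l, ε (X.inclC A l) = TrivSqZeroExt.inr l := fun l => e.apply_incl l
  have hεinj : Function.Injective ε := e.toAlgEquiv.injective
  have hdec : ∀ y : E, y = j (algebraMap E C y) + X.inclC A (ε y).snd := fun y => hεinj (by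
    rw [map_add, hεj, hεi]
    exact TrivSqZeroExt.ext (by simp [hfst]) (by simp))
  have hpj : ∀ c, algebraMap E C (j c) = c := fun c => by rw [← hfst, hεj, TrivSqZeroExt.fst_inl]
  have hjA : ∀ a : A, j (algebraMap A C a) = algebraMap A E a := fun a => hεinj (by
    rw [hεj]
    show _ = ε (algebraMap B E (algebraMap A B a))
    rw [hbase, D.map_algebraMap, TrivSqZeroExt.inr_zero, add_zero, ← IsScalarTower.algebraMap_apply])
  have hmulS : ∀ c c' : C, (1 : C) ⊗ₜ[E] KaehlerDifferential.D A E (j (c * c')) =
      c • ((1 : C) ⊗ₜ[E] KaehlerDifferential.D A E (j c')) + c' • ((1 : C) ⊗ₜ[E] KaehlerDifferential.D A E (j c)) := by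
    intro c c'
    rw [map_mul, Derivation.leibniz, TensorProduct.tmul_add, TensorProduct.tmul_smul, TensorProduct.tmul_smul,
      ← algebraMap_smul C (j c), ← algebraMap_smul C (j c'), hpj, hpj]
  let S : Derivation A C (C ⊗[E] Ω[E⁄A]) := Derivation.mk'
    { toFun := fun c => (1 : C) ⊗ₜ[E] KaehlerDifferential.D A E (j c)
      map_add' := fun c c' => by rw [map_add, map_add, TensorProduct.tmul_add]
      map_smul' := fun a c => by
        rw [Algebra.smul_def, hmulS, hjA, Derivation.map_algebraMap, TensorProduct.tmul_zero, smul_zero, add_zero,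
          algebraMap_smul, RingHom.id_apply] }
    hmulS
  have key : ∀ z : C ⊗[E] Ω[E⁄A],
      z = X.deltaL A (R z) + S.liftKaehlerDifferential (KaehlerDifferential.mapBaseChange A E C z) := by
    intro z
    induction z with
    | zero => rw [map_zero, map_zero, map_zero, map_zero, add_zero]
    | add x y hx hy =>
      rw [map_add, map_add, map_add, map_add, add_add_add_comm, ← hx, ← hy]
    | tmul c ω =>
      have hω : ω ∈ Submodule.span E (Set.range (KaehlerDifferential.D A E)) := by
        rw [KaehlerDifferential.span_range_derivation]; trivial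
      induction hω using Submodule.span_induction generalizing c with
      | mem w hw =>
        obtain ⟨y, rfl⟩ := hw
        rw [hR, KaehlerDifferential.mapBaseChange_tmul, KaehlerDifferential.map_D,
          LinearMap.map_smul S.liftKaehlerDifferential, Derivation.liftKaehlerDifferential_comp_D]
        show c ⊗ₜ[E] KaehlerDifferential.D A E y = (1 : C) ⊗ₜ[E] KaehlerDifferential.D A E (X.inclC A (c • (ε y).snd)) +
          c • ((1 : C) ⊗ₜ[E] KaehlerDifferential.D A E (j (algebraMap E C y)))
        have hmi : X.inclC A (c • (ε y).snd) = j c * X.inclC A (ε y).snd := hεinj (by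
          rw [map_mul, hεi, hεj, hεi, TrivSqZeroExt.inl_mul_inr])
        have hpi : algebraMap E C (X.inclC A (ε y).snd) = 0 := proj_incl X _
        rw [hmi, Derivation.leibniz, TensorProduct.tmul_add, TensorProduct.tmul_smul, TensorProduct.tmul_smul,
          ← algebraMap_smul C (j c), ← algebraMap_smul C (X.inclC A (ε y).snd), hpj, hpi, zero_smul, add_zero,
          ← smul_add, ← TensorProduct.tmul_add, ← map_add, add_comm (X.inclC A _), ← hdec,
          TensorProduct.smul_tmul', smul_eq_mul, mul_one]
      | zero => rw [TensorProduct.tmul_zero, map_zero, map_zero, map_zero, map_zero, add_zero]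
      | add x y _ _ hx hy =>
        rw [TensorProduct.tmul_add, map_add, map_add, map_add, map_add, add_add_add_comm, ← hx, ← hy]
      | smul r y _ hy => rw [← TensorProduct.smul_tmul]; exact hy _
  have hRd : ∀ l, R (X.deltaL A l) = l := fun l => by
    show R ((1 : C) ⊗ₜ[E] KaehlerDifferential.D A E (X.inclC A l)) = l
    rw [hR, hεi, TrivSqZeroExt.snd_inr, one_smul]
  refine ⟨fun l l' h => by rw [← hRd l, h, hRd], fun z => ?_⟩
  have hnat : ∀ w : C ⊗[B] Ω[B⁄A], R (X.baseChangeToMiddle A w) = liftD (C := C) D w ∧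
      KaehlerDifferential.mapBaseChange A E C (X.baseChangeToMiddle A w) = KaehlerDifferential.mapBaseChange A B C w := by
    intro w
    induction w with
    | zero => exact ⟨by rw [map_zero, map_zero, map_zero], by rw [map_zero, map_zero, map_zero]⟩
    | add x y hx hy =>
      exact ⟨by rw [map_add, map_add, map_add, hx.1, hy.1], by rw [map_add, map_add, map_add, hx.2, hy.2]⟩
    | tmul c ω =>
      have hω : ω ∈ Submodule.span B (Set.range (KaehlerDifferential.D A B)) := by
        rw [KaehlerDifferential.span_range_derivation]; trivial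
      induction hω using Submodule.span_induction generalizing c with
      | mem w hw =>
        obtain ⟨b, rfl⟩ := hw
        rw [baseChangeToMiddle_tmul, KaehlerDifferential.map_D, hR, liftD_tmul, hbase, TrivSqZeroExt.snd_add,
          TrivSqZeroExt.snd_inl, TrivSqZeroExt.snd_inr, zero_add, KaehlerDifferential.mapBaseChange_tmul,
          KaehlerDifferential.mapBaseChange_tmul, KaehlerDifferential.map_D, KaehlerDifferential.map_D,
          ← IsScalarTower.algebraMap_apply]
        exact ⟨rfl, rfl⟩
      | zero => refine ⟨?_, ?_⟩ <;> simp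
      | add x y _ _ hx hy =>
        refine ⟨?_, ?_⟩
        · rw [TensorProduct.tmul_add, map_add, map_add, map_add, (hx c).1, (hy c).1]
        · rw [TensorProduct.tmul_add, map_add, map_add, map_add, (hx c).2, (hy c).2]
      | smul r y _ hy => rw [← TensorProduct.smul_tmul]; exact hy _
  have hz : KaehlerDifferential.mapBaseChange A B C (z : C ⊗[B] Ω[B⁄A]) = 0 := z.2
  conv_rhs => rw [key (X.baseChangeToMiddle A _), (hnat _).1, (hnat _).2, hz, map_zero, add_zero]

theorem isCharHom_iff (X : Ext B C L) (D : Derivation A B L) (e : X.Equiv (Ext.ofDerivation (C := C) D))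
    (χ : EGA41.imperfection A B C →ₗ[C] L) :
    X.IsCharHom A χ ↔ χ = (liftD (C := C) D).comp (EGA41.imperfection A B C).subtype := by
  obtain ⟨hinj, h⟩ := deltaL_spec X D e
  refine ⟨fun hχ => LinearMap.ext fun z => hinj ((hχ z).trans (h z).symm), ?_⟩
  rintro rfl z
  exact h z

theorem nonempty_equiv_ofDerivation [IsScalarTower A C L] {D D' : Derivation A B L} (G : Derivation A C L)
    (h : ∀ b, D b = D' b + G (algebraMap B C b)) :
    Nonempty ((Ext.ofDerivation (C := C) D).Equiv (Ext.ofDerivation (C := C) D')) := by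
  let f : TrivSqZeroExt C L →+* TrivSqZeroExt C L :=
    { toFun := fun x => TrivSqZeroExt.inl x.fst + TrivSqZeroExt.inr (x.snd - G x.fst)
      map_one' := by
        rw [TrivSqZeroExt.fst_one, TrivSqZeroExt.snd_one, G.map_one_eq_zero, sub_zero, TrivSqZeroExt.inl_one,
          TrivSqZeroExt.inr_zero, add_zero]
      map_mul' := fun x y => by
        apply TrivSqZeroExt.ext
        · simp
        · simp only [TrivSqZeroExt.snd_add, TrivSqZeroExt.snd_inl, TrivSqZeroExt.snd_inr, zero_add,
            TrivSqZeroExt.snd_mul, TrivSqZeroExt.fst_mul, TrivSqZeroExt.fst_add, TrivSqZeroExt.fst_inl,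
            TrivSqZeroExt.fst_inr, add_zero, op_smul_eq_smul, Derivation.leibniz, smul_sub]
          abel
      map_zero' := by
        rw [TrivSqZeroExt.fst_zero, TrivSqZeroExt.snd_zero, map_zero, sub_zero, TrivSqZeroExt.inl_zero,
          TrivSqZeroExt.inr_zero, add_zero]
      map_add' := fun x y => by
        rw [TrivSqZeroExt.fst_add, TrivSqZeroExt.snd_add, map_add, add_sub_add_comm, TrivSqZeroExt.inl_add,
          TrivSqZeroExt.inr_add]
        abel }
  refine nonempty_equiv _ _
    { (f : Ext.DerCarrier (C := C) D →+* Ext.DerCarrier (C := C) D') with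
      commutes' := fun b => ?_ } (fun x => ?_) (fun z => ?_)
  · show f (TrivSqZeroExt.inl (algebraMap B C b) + TrivSqZeroExt.inr (D b)) =
      TrivSqZeroExt.inl (algebraMap B C b) + TrivSqZeroExt.inr (D' b)
    simp only [f, RingHom.coe_mk, MonoidHom.coe_mk, OneHom.coe_mk]
    rw [TrivSqZeroExt.fst_add, TrivSqZeroExt.fst_inl, TrivSqZeroExt.fst_inr, add_zero, TrivSqZeroExt.snd_add,
      TrivSqZeroExt.snd_inl, TrivSqZeroExt.snd_inr, zero_add, h, add_sub_cancel_right]
  · show (TrivSqZeroExt.inl (TrivSqZeroExt.fst (x : TrivSqZeroExt C L)) + TrivSqZeroExt.inr (TrivSqZeroExt.snd (x : TrivSqZeroExt C L) - G (TrivSqZeroExt.fst (x : TrivSqZeroExt C L))) : TrivSqZeroExt C L).fst = TrivSqZeroExt.fst (x : TrivSqZeroExt C L)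
    rw [TrivSqZeroExt.fst_add, TrivSqZeroExt.fst_inl, TrivSqZeroExt.fst_inr, add_zero]
  · show (TrivSqZeroExt.inl (TrivSqZeroExt.inr z : TrivSqZeroExt C L).fst + TrivSqZeroExt.inr ((TrivSqZeroExt.inr z : TrivSqZeroExt C L).snd - G (TrivSqZeroExt.inr z : TrivSqZeroExt C L).fst) : TrivSqZeroExt C L) = TrivSqZeroExt.inr z
    rw [TrivSqZeroExt.fst_inr, TrivSqZeroExt.snd_inr, map_zero, sub_zero, TrivSqZeroExt.inl_zero, zero_add]

end Groth.Agent.ExalLib
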