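import Groth.Agent.ExalLib.Char
import Groth.Prelude.Def_Exal2
import Mathlib

/-! Consequences of the description of the characteristic homomorphism by derivations. -/

set_option autoImplicit false

universe u v

open TensorProduct KaehlerDifferential

namespace Groth.Agent.ExalLib

attribute [local instance] Exal.opModule Exal.isCentralScalar_opModule

open Exal

section General

variable {A : Type u} {B C L : Type v} [CommRing A] [CommRing B] [CommRing C]
  [Algebra A B] [Algebra B C] [Algebra A C] [IsScalarTower A B C]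
  [AddCommGroup L] [Module C L] [Module B L] [IsScalarTower B C L] [Module A L] [IsScalarTower A B L]
  [IsScalarTower A C L]

theorem exists_extend (h : Module.Injective C L ∨ ∃ s : Ω[C⁄B] →ₗ[C] Ω[C⁄A], ∀ ω : Ω[C⁄B], KaehlerDifferential.map A B C C (s ω) = ω)
    (g : C ⊗[B] Ω[B⁄A] →ₗ[C] L) (hg : ∀ z ∈ EGA41.imperfection A B C, g z = 0) :
    ∃ G : Derivation A C L, ∀ b, G (algebraMap B C b) = g (1 ⊗ₜ KaehlerDifferential.D A B b) := by
  set μ := KaehlerDifferential.mapBaseChange A B C with hμ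
  let gq : LinearMap.range μ →ₗ[C] L := (Submodule.liftQ (LinearMap.ker μ) g hg) ∘ₗ μ.quotKerEquivRange.symm.toLinearMap
  have hgq : ∀ z, gq ⟨μ z, z, rfl⟩ = g z := fun z => by
    show Submodule.liftQ _ g hg (μ.quotKerEquivRange.symm ⟨μ z, z, rfl⟩) = g z
    have : μ.quotKerEquivRange.symm ⟨μ z, z, rfl⟩ = Submodule.Quotient.mk z := by
      rw [LinearEquiv.symm_apply_eq]
      exact Subtype.ext rfl
    rw [this]
    rfl
  obtain ⟨G', hG'⟩ : ∃ G' : Ω[C⁄A] →ₗ[C] L, ∀ z, G' (μ z) = g z := by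
    rcases h with h | ⟨s, hs⟩
    · obtain ⟨G', hG'⟩ := h.out (LinearMap.range μ).subtype Subtype.val_injective gq
      exact ⟨G', fun z => (hG' ⟨μ z, z, rfl⟩).trans (hgq z)⟩
    · let π : Ω[C⁄A] →ₗ[C] LinearMap.range μ :=
        LinearMap.codRestrict _ (LinearMap.id - s ∘ₗ KaehlerDifferential.map A B C C) (fun ω => by
          refine (KaehlerDifferential.exact_mapBaseChange_map A B C _).1 ?_
          rw [LinearMap.sub_apply, map_sub]
          exact sub_eq_zero.2 (hs _).symm)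
      refine ⟨gq ∘ₗ π, fun z => ?_⟩
      have : π (μ z) = ⟨μ z, z, rfl⟩ := Subtype.ext (by
        show μ z - s (KaehlerDifferential.map A B C C (μ z)) = μ z
        rw [(KaehlerDifferential.exact_mapBaseChange_map A B C).apply_apply_eq_zero, map_zero, sub_zero])
      rw [LinearMap.comp_apply, this, hgq]
  refine ⟨G'.compDer (KaehlerDifferential.D A C), fun b => ?_⟩
  rw [← hG', hμ, KaehlerDifferential.mapBaseChange_tmul, one_smul, KaehlerDifferential.map_D]
  rfl

theorem nonempty_equiv_of_isCharHom (h : Module.Injective C L ∨ ∃ s : Ω[C⁄B] →ₗ[C] Ω[C⁄A], ∀ ω : Ω[C⁄B], KaehlerDifferential.map A B C C (s ω) = ω)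
    (X Y : Ext B C L) (hX : X.IsTrivialOver A) (hY : Y.IsTrivialOver A)
    (χ : ↥(EGA41.imperfection A B C) →ₗ[C] L) (hXχ : X.IsCharHom A χ) (hYχ : Y.IsCharHom A χ) :
    Nonempty (X.Equiv Y) := by
  obtain ⟨D, ⟨e⟩⟩ := (isTrivialOver_iff X).1 hX
  obtain ⟨D', ⟨e'⟩⟩ := (isTrivialOver_iff Y).1 hY
  rw [isCharHom_iff X D e] at hXχ
  rw [isCharHom_iff Y D' e'] at hYχ
  obtain ⟨G, hG⟩ := exists_extend h (liftD D - liftD D') (fun z hz => by
    rw [LinearMap.sub_apply, sub_eq_zero]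
    exact LinearMap.congr_fun (hXχ.symm.trans hYχ) ⟨z, hz⟩)
  obtain ⟨f⟩ := nonempty_equiv_ofDerivation (C := C) (D := D) (D' := D') G (fun b => by
    rw [hG, LinearMap.sub_apply, liftD_tmul, liftD_tmul, one_smul, one_smul, add_sub_cancel])
  exact ⟨(e.trans f).trans e'.symm⟩

theorem exists_isCharHom (h : Module.Injective C L ∨ ∃ r : C ⊗[B] Ω[B⁄A] →ₗ[C] ↥(EGA41.imperfection A B C), ∀ z : ↥(EGA41.imperfection A B C), r z = z)
    (χ : ↥(EGA41.imperfection A B C) →ₗ[C] L) : ∃ X : Ext B C L, X.IsTrivialOver A ∧ X.IsCharHom A χ := by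
  obtain ⟨g, hg⟩ : ∃ g : C ⊗[B] Ω[B⁄A] →ₗ[C] L, ∀ z : ↥(EGA41.imperfection A B C), g z = χ z := by
    rcases h with h | ⟨r, hr⟩
    · letI : AddCommGroup ↥(EGA41.imperfection A B C) := Submodule.addCommGroup _
      exact h.out (EGA41.imperfection A B C).subtype Subtype.val_injective χ
    · exact ⟨χ ∘ₗ r, fun z => by rw [LinearMap.comp_apply, hr]⟩
  let D : Derivation A B L := ((g.restrictScalars B) ∘ₗ TensorProduct.mk B C Ω[B⁄A] 1).compDer (KaehlerDifferential.D A B)
  have hD : liftD (C := C) D = g := ext_tmul_D fun b => by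
    rw [liftD_tmul, one_smul]
    rfl
  refine ⟨Ext.ofDerivation (C := C) D, (isTrivialOver_iff _).2 ⟨D, ⟨Ext.Equiv.refl _⟩⟩,
    (isCharHom_iff _ D (Ext.Equiv.refl _) χ).2 (LinearMap.ext fun z => ?_)⟩
  rw [hD]
  exact (hg z).symm

end General

section Smooth

variable {A : Type u} {B C L : Type v} [CommRing A] [CommRing B] [CommRing C]
  [Algebra A B] [Algebra B C] [Algebra A C] [IsScalarTower A B C]
  [AddCommGroup L] [Module C L]

theorem isTrivialOver_of_formallySmooth [Algebra.FormallySmooth A C] (X : Ext B C L) : X.IsTrivialOver A := by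
  have hsq : RingHom.ker (X.restrictBase A).proj.toRingHom ^ 2 = ⊥ := by
    rw [pow_two, eq_bot_iff, Ideal.mul_le]
    intro x hx y hy
    obtain ⟨z, rfl⟩ := ((X.restrictBase A).isExtension.exact x).1 hx
    obtain ⟨z', rfl⟩ := ((X.restrictBase A).isExtension.exact y).1 hy
    rw [Ideal.mem_bot, incl_mul_incl]
  exact ⟨Algebra.FormallySmooth.liftOfSurjective (AlgHom.id A C) (X.restrictBase A).proj
      (X.restrictBase A).isExtension.proj_surjective ⟨2, hsq⟩,
    fun c => Algebra.FormallySmooth.liftOfSurjective_apply (AlgHom.id A C) (X.restrictBase A).proj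
      (X.restrictBase A).isExtension.proj_surjective ⟨2, hsq⟩ c⟩

variable (A B C) in
theorem split_of_formallySmooth [Algebra.FormallySmooth A C] [Module.Projective C Ω[C⁄B]] :
    (∃ r : C ⊗[B] Ω[B⁄A] →ₗ[C] ↥(EGA41.imperfection A B C), ∀ z : ↥(EGA41.imperfection A B C), r z = z) ∧
      ∃ s : Ω[C⁄B] →ₗ[C] Ω[C⁄A], ∀ ω : Ω[C⁄B], KaehlerDifferential.map A B C C (s ω) = ω := by
  obtain ⟨s, hs⟩ := Module.projective_lifting_property (KaehlerDifferential.map A B C C) LinearMap.id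
    (KaehlerDifferential.map_surjective A B C)
  have hs' : ∀ ω, KaehlerDifferential.map A B C C (s ω) = ω := LinearMap.congr_fun hs
  set μ := KaehlerDifferential.mapBaseChange A B C with hμ
  let π : Ω[C⁄A] →ₗ[C] LinearMap.range μ :=
    LinearMap.codRestrict _ (LinearMap.id - s ∘ₗ KaehlerDifferential.map A B C C) (fun ω => by
      refine (KaehlerDifferential.exact_mapBaseChange_map A B C _).1 ?_
      rw [LinearMap.sub_apply, map_sub]
      exact sub_eq_zero.2 (hs' _).symm)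
  haveI : Module.Projective C (LinearMap.range μ) := Module.Projective.of_split (LinearMap.range μ).subtype π
    (LinearMap.ext fun x => Subtype.ext (by
      obtain ⟨_, z, rfl⟩ := x
      show μ z - s (KaehlerDifferential.map A B C C (μ z)) = μ z
      rw [(KaehlerDifferential.exact_mapBaseChange_map A B C).apply_apply_eq_zero, map_zero, sub_zero]))
  obtain ⟨t, ht⟩ := Module.projective_lifting_property μ.rangeRestrict LinearMap.id μ.surjective_rangeRestrict
  have ht' : ∀ x, μ (t x) = x := fun x => congrArg Subtype.val (LinearMap.congr_fun ht x)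
  refine ⟨⟨LinearMap.codRestrict _ (LinearMap.id - t ∘ₗ μ.rangeRestrict) (fun z => ?_), fun z => ?_⟩, s, hs'⟩
  · show μ (z - t (μ.rangeRestrict z)) = 0
    rw [map_sub, ht']
    exact sub_self _
  · apply Subtype.ext
    show (z : C ⊗[B] Ω[B⁄A]) - t (μ.rangeRestrict z) = z
    have : μ.rangeRestrict (z : C ⊗[B] Ω[B⁄A]) = 0 := Subtype.ext z.2
    rw [this, map_zero, sub_zero]

end Smooth

section Infinitesimal

variable {A : Type u} {B : Type v} [CommRing A] [CommRing B] [Algebra A B] (K : Ideal B)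

theorem infinitesimal_data (hK : (Ext.infinitesimal K).IsTrivialOver A) :
    ∃ D : Derivation A B K.Cotangent,
      Nonempty ((Ext.infinitesimal K).Equiv (Ext.ofDerivation (C := B ⧸ K) D)) ∧
        ∀ x (hx : x ∈ K), D x = K.toCotangent ⟨x, hx⟩ := by
  obtain ⟨D, ⟨e⟩⟩ := (isTrivialOver_iff (L := K.Cotangent) (Ext.infinitesimal K)).1 hK
  refine ⟨D, ⟨e⟩, fun x hx => ?_⟩
  have h1 : (TrivSqZeroExt.inl (algebraMap B (B ⧸ K) x) + TrivSqZeroExt.inr (D x) : TrivSqZeroExt (B ⧸ K) K.Cotangent) =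
      TrivSqZeroExt.inr (K.toCotangent ⟨x, hx⟩) := by
    refine ((e.toAlgEquiv.commutes x).symm.trans ?_).trans (e.apply_incl (K.toCotangent ⟨x, hx⟩))
    congr 1
  have := congrArg TrivSqZeroExt.snd h1
  rwa [TrivSqZeroExt.snd_add, TrivSqZeroExt.snd_inl, TrivSqZeroExt.snd_inr, zero_add, TrivSqZeroExt.snd_inr] at this

theorem tmul_D_eq_zero_of_mem_sq {x : B} (hx : x ∈ K ^ 2) :
    (1 : B ⧸ K) ⊗ₜ[B] KaehlerDifferential.D A B x = 0 := by
  rw [pow_two] at hx
  induction hx using Submodule.mul_induction_on' with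
  | mem_mul_mem a ha b hb =>
    rw [Derivation.leibniz, TensorProduct.tmul_add, TensorProduct.tmul_smul, TensorProduct.tmul_smul,
      ← algebraMap_smul (B ⧸ K) a, ← algebraMap_smul (B ⧸ K) b, Ideal.Quotient.algebraMap_eq,
      Ideal.Quotient.eq_zero_iff_mem.2 ha, Ideal.Quotient.eq_zero_iff_mem.2 hb, zero_smul, zero_smul, add_zero]
  | add a _ b _ ha hb => rw [map_add, TensorProduct.tmul_add, ha, hb, add_zero]

theorem exists_eq_tmul_D {z : (B ⧸ K) ⊗[B] Ω[B⁄A]} (hz : KaehlerDifferential.mapBaseChange A B (B ⧸ K) z = 0) :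
    ∃ x ∈ K, z = 1 ⊗ₜ KaehlerDifferential.D A B x := by
  obtain ⟨y, rfl⟩ := (KaehlerDifferential.exact_kerCotangentToTensor_mapBaseChange A B (B ⧸ K)
    Ideal.Quotient.mk_surjective z).1 hz
  obtain ⟨⟨x, hx⟩, rfl⟩ := Ideal.toCotangent_surjective _ y
  exact ⟨x, Ideal.Quotient.eq_zero_iff_mem.1 hx, KaehlerDifferential.kerCotangentToTensor_toCotangent _ _ _ _⟩

theorem liftD_tmul_D_eq_zero_iff (D : Derivation A B K.Cotangent) (hD : ∀ x (hx : x ∈ K), D x = K.toCotangent ⟨x, hx⟩)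
    {z : (B ⧸ K) ⊗[B] Ω[B⁄A]} (hz : KaehlerDifferential.mapBaseChange A B (B ⧸ K) z = 0) :
    liftD (C := B ⧸ K) D z = 0 ↔ z = 0 := by
  refine ⟨fun h => ?_, fun h => by rw [h, map_zero]⟩
  obtain ⟨x, hx, rfl⟩ := exists_eq_tmul_D K hz
  rw [liftD_tmul, one_smul, hD x hx, Ideal.toCotangent_eq_zero] at h
  exact tmul_D_eq_zero_of_mem_sq K h

theorem bijective_charHom (hK : (Ext.infinitesimal K).IsTrivialOver A)
    (χ : ↥(EGA41.imperfection A B (B ⧸ K)) →ₗ[B ⧸ K] K.Cotangent)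
    (hχ : (Ext.infinitesimal K).IsCharHom A χ) : Function.Bijective χ := by
  obtain ⟨D, ⟨e⟩, hD⟩ := infinitesimal_data K hK
  rw [isCharHom_iff _ D e] at hχ
  subst hχ
  refine ⟨(injective_iff_map_eq_zero _).2 fun z hz => Subtype.ext ((liftD_tmul_D_eq_zero_iff K D hD z.2).1 hz), fun w => ?_⟩
  obtain ⟨⟨x, hx⟩, rfl⟩ := K.toCotangent_surjective w
  refine ⟨⟨(1 : B ⧸ K) ⊗ₜ KaehlerDifferential.D A B x, ?_⟩, ?_⟩
  · show KaehlerDifferential.mapBaseChange A B (B ⧸ K) _ = 0
    rw [KaehlerDifferential.mapBaseChange_tmul, KaehlerDifferential.map_D, Ideal.Quotient.algebraMap_eq,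
      Ideal.Quotient.eq_zero_iff_mem.2 hx, map_zero, smul_zero]
  · rw [LinearMap.comp_apply, Submodule.subtype_apply]
    rw [liftD_tmul, one_smul, hD]

end Infinitesimal

section Triple

variable {Λ : Type u} {A B : Type v} [CommRing Λ] [CommRing A] [CommRing B] [Algebra Λ A] [Algebra Λ B]
  [Algebra A B] [IsScalarTower Λ A B] (K : Ideal B)

/-- The image map `C ⊗_A Ω_{A/Λ} → C ⊗_B Ω_{B/Λ}`. -/
noncomputable def img : (B ⧸ K) ⊗[A] Ω[A⁄Λ] →ₗ[B ⧸ K] (B ⧸ K) ⊗[B] Ω[B⁄Λ] :=
  ((KaehlerDifferential.mapBaseChange Λ A B).baseChange (B ⧸ K)) ∘ₗ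
    (TensorProduct.AlgebraTensorModule.cancelBaseChange A B (B ⧸ K) (B ⧸ K) Ω[A⁄Λ]).symm.toLinearMap

theorem img_tmul (a : A) :
    img (Λ := Λ) K ((1 : B ⧸ K) ⊗ₜ KaehlerDifferential.D Λ A a) =
      (1 : B ⧸ K) ⊗ₜ KaehlerDifferential.D Λ B (algebraMap A B a) := by
  rw [img, LinearMap.comp_apply, LinearEquiv.coe_coe, TensorProduct.AlgebraTensorModule.cancelBaseChange_symm_tmul,
    LinearMap.baseChange_tmul, KaehlerDifferential.mapBaseChange_tmul, one_smul, KaehlerDifferential.map_D]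

theorem charHom_spec (htriv : ((Ext.infinitesimal K).restrictBase A).IsTrivialOver Λ)
    (χ : ↥(EGA41.imperfection Λ A (B ⧸ K)) →ₗ[B ⧸ K] K.Cotangent)
    (hχ : ((Ext.infinitesimal K).restrictBase A).IsCharHom Λ χ) :
    (∀ z : ↥(EGA41.imperfection Λ A (B ⧸ K)), χ z = 0 ↔ img (Λ := Λ) K (z : (B ⧸ K) ⊗[A] Ω[A⁄Λ]) = 0) ∧
      ∀ (x : B) (hx : x ∈ K),
        K.toCotangent ⟨x, hx⟩ ∈ LinearMap.range χ ↔
          (1 : B ⧸ K) ⊗ₜ[B] KaehlerDifferential.D A B x = (0 : (B ⧸ K) ⊗[B] Ω[B⁄A]) := by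
  have htriv' : (Ext.infinitesimal K).IsTrivialOver Λ := by
    obtain ⟨s, hs⟩ := htriv
    refine ⟨{ (s.toRingHom : B ⧸ K →+* (Ext.infinitesimal K).RestrictCarrier Λ) with
              commutes' := fun l => ?_ }, hs⟩
    refine (s.commutes l).trans ?_
    show algebraMap B (B ⧸ K ^ 2) (algebraMap A B (algebraMap Λ A l)) = algebraMap B (B ⧸ K ^ 2) (algebraMap Λ B l)
    rw [IsScalarTower.algebraMap_apply Λ A B]
  obtain ⟨D, ⟨e⟩, hD⟩ := infinitesimal_data K htriv'
  haveI : IsScalarTower A (B ⧸ K) K.Cotangent := IsScalarTower.of_algebraMap_smul fun a x => by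
    rw [IsScalarTower.algebraMap_apply A B (B ⧸ K), algebraMap_smul, algebraMap_smul]
  let DA : Derivation Λ A K.Cotangent := D.compAlgebraMap A
  obtain ⟨eA⟩ := nonempty_equiv ((Ext.infinitesimal K).restrictBase A) (Ext.ofDerivation (C := B ⧸ K) DA)
    { (e.toAlgEquiv.toRingEquiv.toRingHom :
        (Ext.infinitesimal K).RestrictCarrier A →+* Ext.DerCarrier (C := B ⧸ K) DA) with
      commutes' := fun a => by
        refine (e.toAlgEquiv.commutes (algebraMap A B a)).trans ?_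
        show TrivSqZeroExt.inl (algebraMap B (B ⧸ K) (algebraMap A B a)) + TrivSqZeroExt.inr (D (algebraMap A B a)) =
          TrivSqZeroExt.inl (algebraMap A (B ⧸ K) a) + TrivSqZeroExt.inr (DA a)
        rw [← IsScalarTower.algebraMap_apply]
        rfl }
    (fun x => e.proj_apply x) (fun z => e.apply_incl z)
  rw [isCharHom_iff _ DA eA] at hχ
  subst hχ
  have h1 : liftD (C := B ⧸ K) DA = (liftD (C := B ⧸ K) D) ∘ₗ img (Λ := Λ) K := ext_tmul_D fun a => by
    rw [liftD_tmul, LinearMap.comp_apply, img_tmul, liftD_tmul]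
    rfl
  have h2 : KaehlerDifferential.mapBaseChange Λ A (B ⧸ K) =
      (KaehlerDifferential.mapBaseChange Λ B (B ⧸ K)) ∘ₗ img (Λ := Λ) K := ext_tmul_D fun a => by
    rw [LinearMap.comp_apply, img_tmul, KaehlerDifferential.mapBaseChange_tmul, KaehlerDifferential.mapBaseChange_tmul,
      KaehlerDifferential.map_D, KaehlerDifferential.map_D, ← IsScalarTower.algebraMap_apply]
  have hker : ∀ z : ↥(EGA41.imperfection Λ A (B ⧸ K)),
      KaehlerDifferential.mapBaseChange Λ B (B ⧸ K) (img (Λ := Λ) K (z : (B ⧸ K) ⊗[A] Ω[A⁄Λ])) = 0 := fun z => by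
    rw [← LinearMap.comp_apply, ← h2]
    exact z.2
  have hex : Function.Exact ((KaehlerDifferential.mapBaseChange Λ A B).lTensor (B ⧸ K))
      ((KaehlerDifferential.map Λ A B B).lTensor (B ⧸ K)) :=
    lTensor_exact (B ⧸ K) (KaehlerDifferential.exact_mapBaseChange_map Λ A B) (KaehlerDifferential.map_surjective Λ A B)
  refine ⟨fun z => ?_, fun x hx => ?_⟩
  · rw [LinearMap.comp_apply, h1]
    exact liftD_tmul_D_eq_zero_iff K D hD (hker z)
  · have hmap : (KaehlerDifferential.map Λ A B B).lTensor (B ⧸ K) ((1 : B ⧸ K) ⊗ₜ KaehlerDifferential.D Λ B x) =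
        (1 : B ⧸ K) ⊗ₜ[B] KaehlerDifferential.D A B x := by
      rw [LinearMap.lTensor_tmul, KaehlerDifferential.map_D]
      rfl
    rw [← hmap, hex _]
    constructor
    · rintro ⟨z, hz⟩
      obtain ⟨y, hy, he⟩ := exists_eq_tmul_D K (hker z)
      have hxy : K.toCotangent ⟨x, hx⟩ = K.toCotangent ⟨y, hy⟩ := by
        rw [← hz, LinearMap.comp_apply, Submodule.subtype_apply, h1, LinearMap.comp_apply, he, liftD_tmul, one_smul, hD]
      rw [Ideal.toCotangent_eq] at hxy
      refine ⟨(TensorProduct.AlgebraTensorModule.cancelBaseChange A B (B ⧸ K) (B ⧸ K) Ω[A⁄Λ]).symm z, ?_⟩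
      have h0 := tmul_D_eq_zero_of_mem_sq (A := Λ) K hxy
      rw [map_sub, TensorProduct.tmul_sub, sub_eq_zero] at h0
      rw [h0, ← he]
      rfl
    · rintro ⟨w', hw'⟩
      let w := TensorProduct.AlgebraTensorModule.cancelBaseChange A B (B ⧸ K) (B ⧸ K) Ω[A⁄Λ] w'
      have hw : img (Λ := Λ) K w = (1 : B ⧸ K) ⊗ₜ KaehlerDifferential.D Λ B x := by
        rw [← hw', img, LinearMap.comp_apply, LinearEquiv.coe_coe, LinearEquiv.symm_apply_apply]
        rfl
      refine ⟨⟨w, ?_⟩, ?_⟩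
      · show KaehlerDifferential.mapBaseChange Λ A (B ⧸ K) w = 0
        rw [h2, LinearMap.comp_apply, hw, KaehlerDifferential.mapBaseChange_tmul, KaehlerDifferential.map_D,
          Ideal.Quotient.algebraMap_eq, Ideal.Quotient.eq_zero_iff_mem.2 hx, map_zero, smul_zero]
      · show liftD DA w = _
        rw [h1, LinearMap.comp_apply, hw, liftD_tmul, one_smul, hD]

theorem exists_retraction_mapBaseChange (Λ : Type u) (A B : Type v) [CommRing Λ] [CommRing A] [CommRing B]
    [Algebra Λ A] [Algebra Λ B] [Algebra A B] [IsScalarTower Λ A B] [Algebra.FormallySmooth A B] :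
    ∃ r : Ω[B⁄Λ] →ₗ[B] B ⊗[A] Ω[A⁄Λ], r ∘ₗ KaehlerDifferential.mapBaseChange Λ A B = LinearMap.id := by
  have hinj : Function.Injective (KaehlerDifferential.mapBaseChange Λ A B) := by
    rw [injective_iff_map_eq_zero]
    intro z hz
    obtain ⟨w, rfl⟩ := (Algebra.H1Cotangent.exact_δ_mapBaseChange Λ A B z).mp hz
    rw [Subsingleton.elim w 0, map_zero]
  exact ((KaehlerDifferential.exact_mapBaseChange_map Λ A B).split_tfae'.out 0 1 rfl rfl |>.mp
    ⟨hinj, Module.projective_lifting_property _ _ (KaehlerDifferential.map_surjective Λ A B)⟩).2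

theorem injective_charHom [Algebra.FormallySmooth A B]
    (htriv : ((Ext.infinitesimal K).restrictBase A).IsTrivialOver Λ)
    (χ : ↥(EGA41.imperfection Λ A (B ⧸ K)) →ₗ[B ⧸ K] K.Cotangent)
    (hχ : ((Ext.infinitesimal K).restrictBase A).IsCharHom Λ χ) : Function.Injective χ := by
  obtain ⟨r, hr⟩ := exists_retraction_mapBaseChange Λ A B
  letI : AddCommGroup ↥(EGA41.imperfection Λ A (B ⧸ K)) := Submodule.addCommGroup _
  refine (injective_iff_map_eq_zero χ).2 fun z hz => Subtype.ext ?_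
  have h0 := ((charHom_spec K htriv χ hχ).1 z).1 hz
  have h := congrArg (r.baseChange (B ⧸ K)) h0
  rw [map_zero, img, LinearMap.comp_apply, ← LinearMap.comp_apply (r.baseChange _),
    ← LinearMap.baseChange_comp, hr, LinearMap.baseChange_id, LinearMap.id_apply, LinearEquiv.coe_coe,
    LinearEquiv.map_eq_zero_iff] at h
  exact h

end Triple

end Groth.Agent.ExalLib
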