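import Groth.Agent.ExalLib.Basic

/-! Self-equivalences, Hochschild cocycles, and pushing trivial extensions along algebra maps. -/

set_option autoImplicit false

universe u u' v

namespace Groth.Agent.ExalLib

attribute [local instance] Exal.opModule Exal.isCentralScalar_opModule

open Exal

section SelfEquiv

variable {A : Type u} {C L : Type v} [CommRing A] [CommRing C] [Algebra A C]
    [AddCommGroup L] [Module C L] [Module A L] [IsScalarTower A C L]

theorem exists_selfEquiv (X : Ext A C L) (D : Derivation A C L) :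
    ∃ e : X.Equiv X, ∀ x : X.E, e.toAlgEquiv x = x + X.incl (D (X.proj x)) := by
  let f : X.E →ₐ[A] X.E :=
    { toFun := fun x => x + X.incl (D (X.proj x))
      map_one' := by rw [map_one, D.map_one_eq_zero, map_zero, add_zero]
      map_mul' := fun x y => by
        rw [map_mul, D.leibniz, map_add, ← X.isExtension.mul_incl, ← X.isExtension.mul_incl, add_mul, mul_add,
          mul_add, incl_mul_incl, add_zero, mul_comm (X.incl _) y, add_assoc]
      map_zero' := by rw [map_zero, map_zero, map_zero, add_zero]
      map_add' := fun x y => by rw [map_add, map_add, map_add, add_add_add_comm]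
      commutes' := fun a => by rw [AlgHom.commutes, D.map_algebraMap, map_zero, add_zero] }
  have hp : ∀ x, X.proj (f x) = X.proj x := fun x => by
    show X.proj (x + X.incl _) = _
    rw [map_add, proj_incl, add_zero]
  have hi : ∀ z, f (X.incl z) = X.incl z := fun z => by
    show X.incl z + X.incl (D (X.proj (X.incl z))) = _
    rw [proj_incl, map_zero, map_zero, add_zero]
  have hinj : Function.Injective f := by
    rw [injective_iff_map_eq_zero]
    intro x hx
    obtain ⟨z, rfl⟩ := (X.isExtension.exact x).1 (by rw [← hp, hx, map_zero])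
    rwa [hi] at hx
  have hsurj : Function.Surjective f := fun y => ⟨y - X.incl (D (X.proj y)), by
    show _ + X.incl (D (X.proj (y - X.incl (D (X.proj y))))) = y
    rw [map_sub, proj_incl, sub_zero, sub_add_cancel]⟩
  exact ⟨⟨AlgEquiv.ofBijective f ⟨hinj, hsurj⟩, hp, hi⟩, fun x => rfl⟩

theorem existsUnique_derivation (X : Ext A C L) (e : X.Equiv X) :
    ∃! D : Derivation A C L, ∀ x : X.E, e.toAlgEquiv x = x + X.incl (D (X.proj x)) := by
  choose r hr using X.isExtension.proj_surjective
  have hk : ∀ x, X.proj (e.toAlgEquiv x - x) = 0 := fun x => by rw [map_sub, e.proj_apply, sub_self]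
  let δ : C → L := fun c => X.kerLift _ (hk (r c))
  have hδ : ∀ x, X.incl (δ (X.proj x)) = e.toAlgEquiv x - x := fun x => by
    obtain ⟨z, hz⟩ := (X.isExtension.exact (x - r (X.proj x))).1 (by rw [map_sub, hr, sub_self])
    have h := congrArg e.toAlgEquiv hz
    rw [e.apply_incl, hz, map_sub] at h
    show X.incl (X.kerLift _ _) = _
    rw [Ext.incl_kerLift]
    linear_combination h
  have hadd : ∀ c c', δ (c + c') = δ c + δ c' := fun c c' => X.isExtension.incl_injective (by
    rw [map_add, ← hr c, ← hr c', ← map_add, hδ, hδ, hδ, map_add]; abel)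
  have hmul : ∀ c c', δ (c * c') = c • δ c' + c' • δ c := fun c c' => X.isExtension.incl_injective (by
    obtain ⟨x, rfl⟩ := X.isExtension.proj_surjective c
    obtain ⟨y, rfl⟩ := X.isExtension.proj_surjective c'
    rw [map_add, ← map_mul]
    conv_rhs => arg 1; rw [← e.proj_apply x]
    rw [← X.isExtension.mul_incl, ← X.isExtension.mul_incl, hδ, hδ, hδ, map_mul]
    ring)
  have hA : ∀ a : A, δ (algebraMap A C a) = 0 := fun a => X.isExtension.incl_injective (by
    rw [← X.proj.commutes a, hδ, AlgEquiv.commutes, sub_self, map_zero])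
  let D : Derivation A C L := Derivation.mk'
    { toFun := δ, map_add' := hadd, map_smul' := fun a c => by
        rw [Algebra.smul_def, hmul, hA, smul_zero, add_zero, IsScalarTower.algebraMap_smul, RingHom.id_apply] }
    hmul
  refine ⟨D, fun x => ?_, fun D' hD' => Derivation.ext fun c => X.isExtension.incl_injective ?_⟩
  · show _ = x + X.incl (δ _)
    rw [hδ, add_sub_cancel]
  · obtain ⟨x, rfl⟩ := X.isExtension.proj_surjective c
    show _ = X.incl (δ (X.proj x))
    rw [hδ, hD', add_sub_cancel_left]

end SelfEquiv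

section Hochschild

variable {A : Type u} {B L : Type v} [CommRing A] [CommRing B] [Algebra A B] [AddCommGroup L] [Module B L]
  [Module A L] [IsScalarTower A B L]

/-- The module `B × L` carrying the ring structure attached to a cocycle. -/
@[nolint unusedArguments]
def HExt (_f : B →ₗ[A] B →ₗ[A] L) (_h1 : ∀ x y : B, _f x y = _f y x)
    (_h2 : ∀ x y z : B, _f (x * y) z + z • _f x y = x • _f y z + _f x (y * z)) : Type v := B × L

variable (f : B →ₗ[A] B →ₗ[A] L) (h1 : ∀ x y : B, f x y = f y x)
  (h2 : ∀ x y z : B, f (x * y) z + z • f x y = x • f y z + f x (y * z))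

instance : AddCommGroup (HExt f h1 h2) := inferInstanceAs (AddCommGroup (B × L))

instance : Module A (HExt f h1 h2) := inferInstanceAs (Module A (B × L))

include h2 in
theorem f_one_left (z : B) : f 1 z = z • f 1 1 := by
  have := h2 1 1 z
  rw [one_mul, one_mul, one_smul] at this
  exact (add_left_cancel this).symm

instance instCommRingHExt : CommRing (HExt f h1 h2) :=
  { (inferInstance : AddCommGroup (HExt f h1 h2)) with
    mul := fun p q => ((p.1 * q.1, p.1 • q.2 + q.1 • p.2 + f p.1 q.1) : B × L)
    one := ((1, - f 1 1) : B × L)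
    mul_assoc := fun a b c => by
      refine Prod.ext (mul_assoc a.1 b.1 c.1) ?_
      show (a.1 * b.1) • c.2 + c.1 • (a.1 • b.2 + b.1 • a.2 + f a.1 b.1) + f (a.1 * b.1) c.1 =
        a.1 • (b.1 • c.2 + c.1 • b.2 + f b.1 c.1) + (b.1 * c.1) • a.2 + f a.1 (b.1 * c.1)
      linear_combination (norm := module) h2 a.1 b.1 c.1
    mul_comm := fun a b => by
      refine Prod.ext (mul_comm a.1 b.1) ?_
      show a.1 • b.2 + b.1 • a.2 + f a.1 b.1 = b.1 • a.2 + a.1 • b.2 + f b.1 a.1
      rw [h1 a.1 b.1]; abel
    one_mul := fun a => by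
      refine Prod.ext (one_mul a.1) ?_
      show (1 : B) • a.2 + a.1 • (-f 1 1) + f 1 a.1 = a.2
      rw [f_one_left f h2 a.1, one_smul, smul_neg]; abel
    mul_one := fun a => by
      refine Prod.ext (mul_one a.1) ?_
      show a.1 • (-f 1 1) + (1 : B) • a.2 + f a.1 1 = a.2
      rw [h1 a.1 1, f_one_left f h2 a.1, one_smul, smul_neg]; abel
    left_distrib := fun a b c => by
      refine Prod.ext (mul_add a.1 b.1 c.1) ?_
      show a.1 • (b.2 + c.2) + (b.1 + c.1) • a.2 + f a.1 (b.1 + c.1) =
        (a.1 • b.2 + b.1 • a.2 + f a.1 b.1) + (a.1 • c.2 + c.1 • a.2 + f a.1 c.1)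
      rw [smul_add, add_smul, map_add]; abel
    right_distrib := fun a b c => by
      refine Prod.ext (add_mul a.1 b.1 c.1) ?_
      show (a.1 + b.1) • c.2 + c.1 • (a.2 + b.2) + f (a.1 + b.1) c.1 =
        (a.1 • c.2 + c.1 • a.2 + f a.1 c.1) + (b.1 • c.2 + c.1 • b.2 + f b.1 c.1)
      rw [smul_add, add_smul, map_add, LinearMap.add_apply]; abel
    zero_mul := fun a => by
      refine Prod.ext (zero_mul a.1) ?_
      show (0 : B) • a.2 + a.1 • (0 : L) + f 0 a.1 = 0
      rw [zero_smul, smul_zero, map_zero, LinearMap.zero_apply, add_zero, add_zero]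
    mul_zero := fun a => by
      refine Prod.ext (mul_zero a.1) ?_
      show a.1 • (0 : L) + (0 : B) • a.2 + f a.1 0 = 0
      rw [zero_smul, smul_zero, map_zero, add_zero, add_zero] }

noncomputable instance : Algebra A (HExt f h1 h2) :=
  Algebra.ofModule
    (fun r p q => by
      refine Prod.ext (smul_mul_assoc r p.1 q.1) ?_
      show (r • p.1) • q.2 + q.1 • (r • p.2) + f (r • p.1) q.1 = r • (p.1 • q.2 + q.1 • p.2 + f p.1 q.1)
      rw [smul_add, smul_add, map_smul, LinearMap.smul_apply, smul_assoc, smul_comm q.1 r])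
    (fun r p q => by
      refine Prod.ext (mul_smul_comm r p.1 q.1) ?_
      show p.1 • (r • q.2) + (r • q.1) • p.2 + f p.1 (r • q.1) = r • (p.1 • q.2 + q.1 • p.2 + f p.1 q.1)
      rw [smul_add, smul_add, map_smul, smul_assoc, smul_comm p.1 r])

/-- The extension attached to a symmetric cocycle. -/
noncomputable def hExt : Ext A B L where
  E := HExt f h1 h2
  proj :=
    { toFun := fun p => p.1
      map_one' := rfl
      map_mul' := fun _ _ => rfl
      map_zero' := rfl
      map_add' := fun _ _ => rfl
      commutes' := fun a => by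
        show (a • (1 : B)) = algebraMap A B a
        rw [Algebra.algebraMap_eq_smul_one] }
  incl :=
    { toFun := fun z => ((0, z) : B × L)
      map_zero' := rfl
      map_add' := fun z z' => Prod.ext (add_zero (0 : B)).symm rfl }
  isExtension :=
    { proj_surjective := fun b => ⟨((b, 0) : B × L), rfl⟩
      incl_injective := fun z z' h => congrArg (fun p : B × L => p.2) h
      exact := fun p => ⟨fun h => ⟨p.2, Prod.ext (Eq.symm h) rfl⟩, by rintro ⟨z, rfl⟩; rfl⟩
      mul_incl := fun p z => by
        refine Prod.ext (mul_zero p.1) ?_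
        show p.1 • z + (0 : B) • p.2 + f p.1 0 = p.1 • z
        rw [zero_smul, map_zero, add_zero, add_zero] }

include h1 h2 in
theorem exists_coboundary [Algebra.FormallySmooth A B] :
    ∃ g : B →ₗ[A] L, ∀ x y : B, f x y = x • g y - g (x * y) + y • g x := by
  have hsq : RingHom.ker (hExt f h1 h2).proj.toRingHom ^ 2 = ⊥ := by
    rw [pow_two, eq_bot_iff, Ideal.mul_le]
    intro x hx y hy
    obtain ⟨z, rfl⟩ := ((hExt f h1 h2).isExtension.exact x).1 hx
    obtain ⟨z', rfl⟩ := ((hExt f h1 h2).isExtension.exact y).1 hy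
    rw [Ideal.mem_bot, incl_mul_incl]
  let s := Algebra.FormallySmooth.liftOfSurjective (AlgHom.id A B) (hExt f h1 h2).proj
    (hExt f h1 h2).isExtension.proj_surjective ⟨2, hsq⟩
  have hs : ∀ b, (s b : B × L).1 = b := fun b =>
    Algebra.FormallySmooth.liftOfSurjective_apply (AlgHom.id A B) (hExt f h1 h2).proj
      (hExt f h1 h2).isExtension.proj_surjective ⟨2, hsq⟩ b
  let g : B →ₗ[A] L := -((LinearMap.snd A B L) ∘ₗ (s.toLinearMap : B →ₗ[A] HExt f h1 h2))
  refine ⟨g, fun x y => ?_⟩
  have h : (s (x * y) : B × L).2 = (s x : B × L).1 • (s y : B × L).2 + (s y : B × L).1 • (s x : B × L).2 +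
      f (s x : B × L).1 (s y : B × L).1 :=
    congrArg (fun p : HExt f h1 h2 => (p : B × L).2) (map_mul s x y)
  rw [hs, hs] at h
  show f x y = x • -((s y : B × L).2) - -((s (x * y) : B × L).2) + y • -((s x : B × L).2)
  rw [h, smul_neg, smul_neg]
  abel

end Hochschild

theorem exists_pushforward {Λ : Type u} {A : Type u'} {B C L : Type v}
    [CommRing Λ] [CommRing A] [CommRing B] [CommRing C] [Algebra Λ A] [Algebra Λ B] [Algebra Λ C]
    [Algebra A B] [Algebra B C] [Algebra A C] [IsScalarTower Λ A B] [IsScalarTower Λ A C] [IsScalarTower A B C]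
    [AddCommGroup L] [Module C L] [Module B L] [IsScalarTower B C L]
    (Y : Ext A B L) (hY : Y.IsTrivialOver Λ) :
    ∃ X : Ext A C L, X.IsTrivialOver Λ ∧ Nonempty ((X.pullback B).Equiv Y) := by
  obtain ⟨s, hs⟩ := hY
  let s' : B →+* Y.E := s.toRingHom
  have hs' : ∀ b, Y.proj (s' b) = b := hs
  have hk : ∀ y, Y.proj (y - s' (Y.proj y)) = 0 := fun y => by rw [map_sub, hs', sub_self]
  let δ : Y.E → L := fun y => Y.kerLift _ (hk y)
  have hδ : ∀ y, Y.incl (δ y) = y - s' (Y.proj y) := fun y => Ext.incl_kerLift _ _ _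
  let ψ : Y.E →+* TrivSqZeroExt C L :=
    { toFun := fun y => TrivSqZeroExt.inl (algebraMap B C (Y.proj y)) + TrivSqZeroExt.inr (δ y)
      map_one' := by
        have : δ 1 = 0 := Y.isExtension.incl_injective (by rw [hδ, map_one, map_one, sub_self, map_zero])
        rw [this, map_one, map_one, TrivSqZeroExt.inl_one, TrivSqZeroExt.inr_zero, add_zero]
      map_mul' := fun x y => by
        have : δ (x * y) = Y.proj x • δ y + Y.proj y • δ x := Y.isExtension.incl_injective (by
          rw [map_add, ← Y.isExtension.mul_incl]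
          conv_rhs => arg 2; rw [← hs' (Y.proj y)]
          rw [← Y.isExtension.mul_incl, hδ, hδ, hδ, map_mul, map_mul]
          ring)
        apply TrivSqZeroExt.ext
        · simp
        · simp only [this, TrivSqZeroExt.snd_add, TrivSqZeroExt.snd_inl, TrivSqZeroExt.snd_inr, zero_add,
            TrivSqZeroExt.snd_mul, TrivSqZeroExt.fst_add, TrivSqZeroExt.fst_inl, TrivSqZeroExt.fst_inr, add_zero,
            op_smul_eq_smul]
          rw [IsScalarTower.algebraMap_smul, IsScalarTower.algebraMap_smul]
      map_zero' := by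
        have : δ 0 = 0 := Y.isExtension.incl_injective (by rw [hδ, map_zero, map_zero, sub_self, map_zero])
        rw [this, map_zero, map_zero, TrivSqZeroExt.inl_zero, TrivSqZeroExt.inr_zero, add_zero]
      map_add' := fun x y => by
        have : δ (x + y) = δ x + δ y := Y.isExtension.incl_injective (by
          rw [map_add, hδ, hδ, hδ, map_add, map_add]; abel)
        rw [this, map_add, map_add, TrivSqZeroExt.inl_add, TrivSqZeroExt.inr_add]
        abel }
  letI algX : Algebra A (Ext.TrivCarrier A C L) :=
    ((ψ : Y.E →+* Ext.TrivCarrier A C L).comp (algebraMap A Y.E)).toAlgebra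
  let T := Ext.trivial A C L
  let X : Ext A C L :=
    { E := Ext.TrivCarrier A C L
      algebra := algX
      proj :=
        { toFun := fun x => TrivSqZeroExt.fst x
          map_one' := TrivSqZeroExt.fst_one
          map_mul' := TrivSqZeroExt.fst_mul
          map_zero' := TrivSqZeroExt.fst_zero
          map_add' := TrivSqZeroExt.fst_add
          commutes' := fun a => by
            show TrivSqZeroExt.fst (TrivSqZeroExt.inl (algebraMap B C (Y.proj (algebraMap A Y.E a))) + TrivSqZeroExt.inr (δ (algebraMap A Y.E a))) = _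
            rw [TrivSqZeroExt.fst_add, TrivSqZeroExt.fst_inl, TrivSqZeroExt.fst_inr, add_zero, Y.proj.commutes,
              ← IsScalarTower.algebraMap_apply] }
      incl := T.incl
      isExtension := ⟨T.isExtension.proj_surjective, T.isExtension.incl_injective, T.isExtension.exact, T.isExtension.mul_incl⟩ }
  refine ⟨X, ?_, ?_⟩
  · let j : C →+* Ext.TrivCarrier A C L := TrivSqZeroExt.inlHom C L
    refine ⟨{ (j : C →+* X.RestrictCarrier Λ) with
              commutes' := fun l => ?_ }, fun c => rfl⟩
    show TrivSqZeroExt.inl (algebraMap Λ C l) = ψ (algebraMap A Y.E (algebraMap Λ A l))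
    have hsl : s' (algebraMap Λ B l) = algebraMap A Y.E (algebraMap Λ A l) := s.commutes l
    have h0 : δ (algebraMap A Y.E (algebraMap Λ A l)) = 0 := Y.isExtension.incl_injective (by
      rw [hδ, Y.proj.commutes, ← IsScalarTower.algebraMap_apply Λ A B, hsl, sub_self, map_zero])
    show _ = TrivSqZeroExt.inl (algebraMap B C (Y.proj (algebraMap A Y.E (algebraMap Λ A l)))) +
      TrivSqZeroExt.inr (δ (algebraMap A Y.E (algebraMap Λ A l)))
    rw [h0, TrivSqZeroExt.inr_zero, add_zero, Y.proj.commutes, ← IsScalarTower.algebraMap_apply A B C,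
      ← IsScalarTower.algebraMap_apply Λ A C]
  · have hmem : ∀ y, ((ψ : Y.E →+* Ext.TrivCarrier A C L) y, Y.proj y) ∈ X.fiberProd B := fun y => by
      show TrivSqZeroExt.fst (TrivSqZeroExt.inl (algebraMap B C (Y.proj y)) + TrivSqZeroExt.inr (δ y)) = algebraMap B C (Y.proj y)
      rw [TrivSqZeroExt.fst_add, TrivSqZeroExt.fst_inl, TrivSqZeroExt.fst_inr, add_zero]
    let ψA : Y.E →ₐ[A] X.E :=
      { (ψ : Y.E →+* Ext.TrivCarrier A C L) with
        commutes' := fun a => rfl }
    obtain ⟨e⟩ := nonempty_equiv Y (X.pullback B) ((ψA.prod Y.proj).codRestrict (X.fiberProd B) hmem)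
      (fun y => rfl) (fun z => by
        apply Subtype.ext
        refine Prod.ext ?_ (proj_incl Y z)
        have : δ (Y.incl z) = z := Y.isExtension.incl_injective (by rw [hδ, proj_incl, map_zero, sub_zero])
        show TrivSqZeroExt.inl (algebraMap B C (Y.proj (Y.incl z))) + TrivSqZeroExt.inr (δ (Y.incl z)) = TrivSqZeroExt.inr z
        rw [this, proj_incl, map_zero, TrivSqZeroExt.inl_zero, zero_add])
    exact ⟨e.symm⟩

end Groth.Agent.ExalLib
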