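import Groth.Agent.ExalLib.Basic

/-! Formal smoothness through triviality of extensions. -/

set_option autoImplicit false

universe u

namespace Groth.Agent.ExalLib

attribute [local instance] Exal.opModule Exal.isCentralScalar_opModule

open Exal

variable {A B L : Type u} [CommRing A] [CommRing B] [Algebra A B] [AddCommGroup L] [Module B L]

theorem ker_proj_sq (X : Ext A B L) : RingHom.ker X.proj.toRingHom ^ 2 = ⊥ := by
  rw [pow_two, eq_bot_iff, Ideal.mul_le]
  intro x hx y hy
  obtain ⟨z, rfl⟩ := (X.isExtension.exact x).1 hx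
  obtain ⟨z', rfl⟩ := (X.isExtension.exact y).1 hy
  rw [Ideal.mem_bot, incl_mul_incl]

theorem isTrivial_of_formallySmooth [Algebra.FormallySmooth A B] (X : Ext A B L) : X.IsTrivial :=
  ⟨Algebra.FormallySmooth.liftOfSurjective (AlgHom.id A B) X.proj X.isExtension.proj_surjective
      ⟨2, ker_proj_sq X⟩,
    Algebra.FormallySmooth.liftOfSurjective_apply _ _ _ _⟩

/-- A test lifting problem gives an extension: its triviality is the solvability of the problem. -/
theorem exists_lift_iff_pullback (Λ A B : Type u) [CommRing Λ] [CommRing A] [CommRing B] [Algebra Λ A] [Algebra Λ B]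
    [Algebra A B] [IsScalarTower Λ A B] (C : Type u) [CommRing C] [Algebra A C] [Algebra Λ C] [IsScalarTower Λ A C]
    (J : Ideal C) (hJ : J ^ 2 = ⊥) (u₀ : B →ₐ[A] C ⧸ J) :
    ∃ (L : Type u) (_ : AddCommGroup L) (_ : Module B L) (X : Ext A B L),
      ((∃ u : B →ₐ[Λ] C, (Ideal.Quotient.mkₐ Λ J).comp u = u₀.restrictScalars Λ) → X.IsTrivialOver Λ) ∧
      (X.IsTrivial → ∃ v : B →ₐ[A] C, (Ideal.Quotient.mkₐ A J).comp v = u₀) := by
  letI : Algebra B (C ⧸ J) := u₀.toRingHom.toAlgebra
  haveI : IsScalarTower A B (C ⧸ J) := IsScalarTower.of_algebraMap_eq fun a => (u₀.commutes a).symm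
  letI : Module B J.Cotangent := Module.compHom _ (algebraMap B (C ⧸ J))
  haveI : IsScalarTower B (C ⧸ J) J.Cotangent := IsScalarTower.of_algebraMap_smul fun _ _ => rfl
  let Y : Ext A (C ⧸ J) J.Cotangent := (Ext.infinitesimal J).restrictBase A
  refine ⟨J.Cotangent, inferInstance, inferInstance, Y.pullback B, ?_, ?_⟩
  · rintro ⟨u, hu⟩
    let σ : B →+* Y.E := (Ideal.Quotient.mk (J ^ 2)).comp u.toRingHom
    let s : B →+* Y.fiberProd B :=
      RingHom.codRestrict (σ.prod (RingHom.id B)) (Y.fiberProd B)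
        (fun b => AlgHom.congr_fun hu b)
    refine ⟨{ (s : B →+* (Y.pullback B).RestrictCarrier Λ) with
              commutes' := fun l => ?_ }, fun b => rfl⟩
    apply Subtype.ext
    apply Prod.ext
    · show Ideal.Quotient.mk (J ^ 2) (u (algebraMap Λ B l)) = Ideal.Quotient.mk (J ^ 2) (algebraMap A C (algebraMap Λ A l))
      rw [u.commutes, IsScalarTower.algebraMap_apply Λ A C]
    · exact IsScalarTower.algebraMap_apply Λ A B l
  · intro h
    obtain ⟨σ, hσ⟩ := (pullback_isTrivial_iff_lift Y).1 h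
    let ψ : Y.E →+* C := Ideal.Quotient.lift (J ^ 2) (RingHom.id C) (fun a ha => by rw [hJ] at ha; exact ha)
    refine ⟨{ ψ.comp σ.toRingHom with
              commutes' := fun a => ?_ }, AlgHom.ext fun b => ?_⟩
    · show ψ (σ (algebraMap A B a)) = algebraMap A C a
      rw [σ.commutes]
      rfl
    · show Ideal.Quotient.mk J (ψ (σ b)) = u₀ b
      refine Eq.trans ?_ (hσ b)
      obtain ⟨c, hc⟩ := Ideal.Quotient.mk_surjective (I := J ^ 2) (σ b)
      rw [← hc]
      rfl

theorem formallySmooth_iff (A B : Type u) [CommRing A] [CommRing B] [Algebra A B] :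
    Algebra.FormallySmooth A B ↔
      ∀ (L : Type u) [AddCommGroup L] [Module B L] (X : Ext A B L), X.IsTrivial := by
  refine ⟨fun h L _ _ X => isTrivial_of_formallySmooth X, fun h => ?_⟩
  refine Algebra.FormallySmooth.iff_comp_surjective.2 fun C _ _ J hJ u₀ => ?_
  obtain ⟨L, _, _, X, -, hX⟩ := exists_lift_iff_pullback A A B C J hJ u₀
  exact hX (h L X)

theorem isFormallySmoothRel_iff (Λ A B : Type u) [CommRing Λ] [CommRing A] [CommRing B] [Algebra Λ A] [Algebra Λ B]
    [Algebra A B] [IsScalarTower Λ A B] :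
    EGA41.IsFormallySmoothRel Λ A B ↔
      ∀ (L : Type u) [AddCommGroup L] [Module B L] (X : Ext A B L), X.IsTrivialOver Λ → X.IsTrivial := by
  constructor
  · intro h L _ _ X hX
    letI : Algebra Λ X.E := ((algebraMap A X.E).comp (algebraMap Λ A)).toAlgebra
    haveI : IsScalarTower Λ A X.E := IsScalarTower.of_algebraMap_eq' rfl
    let e := Ideal.quotientKerAlgEquivOfSurjective (f := X.proj) X.isExtension.proj_surjective
    obtain ⟨s, hs⟩ := hX
    obtain ⟨v, hv⟩ := h X.E (RingHom.ker X.proj) (ker_proj_sq X) e.symm.toAlgHom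
      ⟨{ (s.toRingHom : B →+* X.E) with
         commutes' := fun l => s.commutes l }, AlgHom.ext fun b => e.injective (by
          show e (Ideal.Quotient.mk _ (s b)) = e (e.symm b)
          rw [AlgEquiv.apply_symm_apply]
          exact hs b)⟩
    refine ⟨v, fun b => ?_⟩
    have := congrArg e (AlgHom.congr_fun hv b)
    simpa [e] using this
  · intro h C _ _ _ _ J hJ u₀ hu
    obtain ⟨L, _, _, X, h1, h2⟩ := exists_lift_iff_pullback Λ A B C J hJ u₀
    exact h2 (h L X (h1 hu))

end Groth.Agent.ExalLib
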